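import Groth.Agent.H78.FSchBridge.Ind
import Groth.Agent.Lib.CohDelta.IndExt.QCoh

/-!
# Full faithfulness of completion on quasi-coherent modules
-/

set_option autoImplicit false
set_option linter.style.haveILetI false

universe u w v

open CategoryTheory CategoryTheory.Limits AlgebraicGeometry TopologicalSpace Opposite

noncomputable section

namespace Groth.Agent.Lib.FormalFF64

section Abstract

variable {C : Type w} [Category.{u} C] {J : Type u} [SmallCategory J] [IsFiltered J] {D : J ⥤ C}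
  {c : Cocone D} (hc : IsColimit c) (G : C) [PreservesColimit D (coyoneda.obj (op G))]

include hc in
/-- A map to a filtered colimit factors through a stage. -/
theorem exists_lift (g : G ⟶ c.pt) : ∃ (j : J) (a : G ⟶ D.obj j), a ≫ c.ι.app j = g :=
  Types.jointly_surjective _ (isColimitOfPreserves (coyoneda.obj (op G)) hc) g

include hc in
/-- Maps equal in a filtered colimit are equal at a stage. -/
theorem exists_eq {i : J} (a b : G ⟶ D.obj i) (h : a ≫ c.ι.app i = b ≫ c.ι.app i) :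
    ∃ (k : J) (t : i ⟶ k), a ≫ D.map t = b ≫ D.map t := by
  obtain ⟨k, s, t, hk⟩ := (Types.FilteredColimit.isColimit_eq_iff _
    (isColimitOfPreserves (coyoneda.obj (op G)) hc)).1
      (show ((coyoneda.obj (op G)).mapCocone c).ι.app i a = ((coyoneda.obj (op G)).mapCocone c).ι.app i b from h)
  refine ⟨IsFiltered.coeq s t, s ≫ IsFiltered.coeqHom s t, ?_⟩
  have hk' : a ≫ D.map s = b ≫ D.map t := hk
  conv_rhs => rw [IsFiltered.coeq_condition s t]
  simp only [Functor.map_comp, ← Category.assoc, hk']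

end Abstract

section Functor

variable {C : Type w} [Category.{u} C] {E : Type v} [Category.{u} E] (F : C ⥤ E) (P : C → Prop)

/-- A functor commuting with filtered colimits, fully faithful on a class of compact generators with
compact images, is fully faithful on their colimits. -/
theorem bijective_map
    (hP : ∀ A B, P A → P B → Function.Bijective (fun f : A ⟶ B => F.map f))
    (hC : ∀ A, P A → ∀ {J : Type u} [SmallCategory J] [IsFiltered J] (D : J ⥤ C), PreservesColimit D (coyoneda.obj (op A)))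
    (hE : ∀ A, P A → ∀ {J : Type u} [SmallCategory J] [IsFiltered J] (D : J ⥤ E), PreservesColimit D (coyoneda.obj (op (F.obj A))))
    {I J : Type u} [SmallCategory I] [SmallCategory J] [IsFiltered J] {DG : I ⥤ C} {DH : J ⥤ C}
    (cG : Cocone DG) (hG : IsColimit cG) (hG' : ∀ i, P (DG.obj i)) [PreservesColimit DG F]
    (cH : Cocone DH) (hH : IsColimit cH) (hH' : ∀ j, P (DH.obj j)) [PreservesColimit DH F] :
    Function.Bijective (fun f : cG.pt ⟶ cH.pt => F.map f) := by
  have hFH := isColimitOfPreserves F hH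
  have inj : ∀ A, P A → Function.Injective (fun f : A ⟶ cH.pt => F.map f) := by
    intro A hA f f' h
    haveI := hC A hA DH
    haveI := hE A hA (DH ⋙ F)
    obtain ⟨j₁, a, rfl⟩ := exists_lift hH A f
    obtain ⟨j₂, a', rfl⟩ := exists_lift hH A f'
    obtain ⟨j, t₁, t₂, -⟩ := IsFilteredOrEmpty.cocone_objs j₁ j₂
    have h1 : (F.map (a ≫ DH.map t₁)) ≫ (F.mapCocone cH).ι.app j = F.map (a' ≫ DH.map t₂) ≫ (F.mapCocone cH).ι.app j := by
      show F.map (a ≫ DH.map t₁) ≫ F.map (cH.ι.app j) = F.map (a' ≫ DH.map t₂) ≫ F.map (cH.ι.app j)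
      rw [← F.map_comp, ← F.map_comp, Category.assoc, Category.assoc, cH.w, cH.w]
      exact h
    obtain ⟨k, t, ht⟩ := exists_eq hFH (F.obj A) (F.map (a ≫ DH.map t₁)) (F.map (a' ≫ DH.map t₂)) h1
    have h2 : (a ≫ DH.map t₁) ≫ DH.map t = (a' ≫ DH.map t₂) ≫ DH.map t :=
      (hP A _ hA (hH' k)).1 (by simpa only [Functor.map_comp, Functor.comp_map] using ht)
    calc a ≫ cH.ι.app j₁ = ((a ≫ DH.map t₁) ≫ DH.map t) ≫ cH.ι.app k := by simp only [Category.assoc, cH.w]
      _ = ((a' ≫ DH.map t₂) ≫ DH.map t) ≫ cH.ι.app k := by rw [h2]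
      _ = a' ≫ cH.ι.app j₂ := by simp only [Category.assoc, cH.w]
  refine ⟨fun f f' h => hG.hom_ext fun i => inj _ (hG' i) (by simp only [Functor.map_comp]; exact congrArg _ h), fun Ψ => ?_⟩
  have hs : ∀ i, ∃ f : DG.obj i ⟶ cH.pt, F.map f = F.map (cG.ι.app i) ≫ Ψ := by
    intro i
    haveI := hE _ (hG' i) (DH ⋙ F)
    obtain ⟨j, b, hb⟩ := exists_lift hFH (F.obj (DG.obj i)) (F.map (cG.ι.app i) ≫ Ψ)
    obtain ⟨a, rfl⟩ := (hP _ _ (hG' i) (hH' j)).2 b
    exact ⟨a ≫ cH.ι.app j, (F.map_comp _ _).trans hb⟩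
  choose f hf using hs
  let s : Cocone DG :=
    { pt := cH.pt
      ι :=
        { app := f
          naturality := fun i i' t => inj _ (hG' i) (by
            show F.map (DG.map t ≫ f i') = F.map (f i ≫ 𝟙 cH.pt)
            rw [Category.comp_id, F.map_comp, hf, hf, ← Category.assoc, ← F.map_comp, cG.w]) } }
  refine ⟨hG.desc s, (isColimitOfPreserves F hG).hom_ext fun i => ?_⟩
  show F.map (cG.ι.app i) ≫ F.map (hG.desc s) = F.map (cG.ι.app i) ≫ Ψ
  rw [← F.map_comp, hG.fac s i]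
  exact hf i

end Functor

section Main

open Groth.Agent.H30 Groth.Agent.H78.FSchBridge
open Groth.Agent.H78.Formal.Sections (sIdeal)

variable {A : Type u} [CommRing A] {X : Scheme.{u}} [X.Over (Spec (CommRingCat.of A))]
  [IsLocallyNoetherian X] {𝔛 : FSch.Sys.{u}} (h𝔛 : 𝔛.IsLocNoethFormal)
  (p : ∀ n, 𝔛.X n ⟶ X) (hp : ∀ n, 𝔛.ι n ≫ p (n + 1) = p n) [∀ k, IsClosedImmersion (p k)]
  (J : Ideal A) (hI : ∀ k (U : X.affineOpens), (p k).ker.ideal U = sIdeal J U.1 ^ (k + 1))
  [IsNoetherianRing A] [IsAdicComplete J A] [IsProper (X ↘ Spec (CommRingCat.of A))]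

include hI in
/-- Completion is fully faithful on quasi-coherent modules. -/
theorem pull_map_bijective [CompactSpace X] [QuasiSeparatedSpace X] (G H : X.Modules)
    [G.IsQuasicoherent] [H.IsQuasicoherent] :
    Function.Bijective (fun φ : G ⟶ H => (FSch.toSchemeMor 𝔛 h𝔛.1 p hp).pull.map φ) := by
  obtain ⟨I₁, _, _, D₁, c₁, hc₁, hD₁, rfl⟩ := CohDelta.FPApprox.Colim.exists_colimit G
  obtain ⟨I₂, _, _, D₂, c₂, hc₂, hD₂, rfl⟩ := CohDelta.FPApprox.Colim.exists_colimit H
  haveI : (FSch.toSchemeMor 𝔛 h𝔛.1 p hp).pull.IsLeftAdjoint := (FSch.toSchemeMor 𝔛 h𝔛.1 p hp).adj.isLeftAdjoint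
  haveI : CompactSpace (𝔛.X 0) := QuasiCompact.compactSpace_of_compactSpace (p 0)
  haveI : QuasiSeparatedSpace (𝔛.X 0) := quasiSeparatedSpace_of_quasiSeparated (p 0)
  have hcoh : ∀ M : X.Modules, CohB1.IsFP M → Coh.IsCoh M := fun M hM =>
    ⟨Groth.Agent.H26.FreeCrit.isQuasicoherent_of_isFP hM, CohDelta.IndExt.QCoh.isFT_of_isFP hM⟩
  refine bijective_map (FSch.toSchemeMor 𝔛 h𝔛.1 p hp).pull CohB1.IsFP ?_ ?_ ?_ c₁ hc₁ hD₁ c₂ hc₂ hD₂
  · intro M N hM hN
    exact ⟨fun φ φ' h => Ind.map_injective h𝔛 p hp J hI (hcoh M hM) (hcoh N hN) h,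
      fun Ψ => Ind.exists_map_eq h𝔛 p hp J hI (hcoh M hM) (hcoh N hN) Ψ⟩
  · intro M hM K _ _ D
    let M' : ModSite.Mod X.sheaf := M
    haveI : SheafOfModules.IsFinitePresentation (R := ModSite.ringSh X.sheaf) M' := hM
    exact Groth.Agent.Lib.FPHom.Global.preservesColimit_coyoneda
      (Groth.Agent.Lib.FPHom.QcCover.exists_qc_cover fun κ V hV => CohDelta.IndExt.QCoh.exists_affine_refinement κ V hV)
      M' D
  · intro M hM K _ _ D
    haveI : SheafOfModules.IsFinitePresentation (R := ModSite.ringSh (𝔛.Osh h𝔛.1))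
        ((FSch.toSchemeMor 𝔛 h𝔛.1 p hp).pull.obj M) := Ind.isCohF_pull h𝔛 p hp (hcoh M hM)
    exact Groth.Agent.Lib.FPHom.Global.preservesColimit_coyoneda
      (Groth.Agent.Lib.FPHom.QcCover.exists_qc_cover fun κ V hV =>
        CohDelta.IndExt.QCoh.exists_affine_refinement (X := 𝔛.X 0) κ V hV)
      _ D

end Main

end Groth.Agent.Lib.FormalFF64
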